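import Groth.Agent.Lib.RegUFD.Basic
import Groth.Agent.Lib.SmoothDiv6.Alg
import Mathlib.RingTheory.Etale.Kaehler
import Mathlib.RingTheory.Smooth.Field
import Mathlib.RingTheory.Localization.NumDen
import Mathlib.RingTheory.Flat.TorsionFree

/-!
# Logarithmic poles of logarithmic differentials
-/

set_option autoImplicit false
set_option linter.style.haveILetI false
universe u

open TensorProduct KaehlerDifferential

namespace GrothLib.DlogPoles5

variable {k R : Type u} [Field k] [CharZero k] [CommRing R] [IsDomain R] [Algebra k R]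
  [Algebra.FormallySmooth k R] [Algebra.EssFiniteType k R]

/-- In characteristic zero the differential of a prime element does not vanish on its divisor. -/
theorem not_smul_D_mem {q z : R} (hq : Prime q) (hz : ¬ q ∣ z) (ω : Ω[R⁄k]) :
    z • D k R q ≠ q • ω := by
  intro h
  haveI : (Ideal.span {q}).IsPrime := (Ideal.span_singleton_prime hq.ne_zero).2 hq
  let T := Localization.AtPrime (Ideal.span {q})
  haveI : IsDomain T := IsLocalization.isDomain_localization (Ideal.primeCompl_le_nonZeroDivisors _)
  haveI : Algebra.FormallySmooth R T :=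
    Algebra.FormallySmooth.of_isLocalization (Ideal.span {q}).primeCompl
  haveI : Algebra.FormallySmooth k T := Algebra.FormallySmooth.comp k R T
  haveI : Algebra.EssFiniteType R T := Algebra.EssFiniteType.of_isLocalization T (Ideal.span {q}).primeCompl
  haveI : Algebra.EssFiniteType k T := Algebra.EssFiniteType.comp k R T
  let κ := IsLocalRing.ResidueField T
  haveI : Algebra.EssFiniteType T κ := inferInstance
  haveI : Algebra.EssFiniteType k κ := Algebra.EssFiniteType.comp k T κ
  haveI : Algebra.FormallySmooth k κ := inferInstance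
  have hsurj : Function.Surjective (algebraMap T κ) := IsLocalRing.residue_surjective
  obtain ⟨l, hl⟩ := (Algebra.FormallySmooth.iff_split_injection (R := k) hsurj).1 inferInstance
  have hu : IsUnit (algebraMap R T z) :=
    IsLocalization.map_units T (⟨z, fun hm => hz (Ideal.mem_span_singleton.1 hm)⟩ : (Ideal.span {q}).primeCompl)
  have hker : RingHom.ker (algebraMap T κ) = Ideal.span {algebraMap R T q} := by
    rw [show RingHom.ker (algebraMap T κ) = IsLocalRing.maximalIdeal T from IsLocalRing.ker_residue,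
      ← Localization.AtPrime.map_eq_maximalIdeal, Ideal.map_span, Set.image_singleton]
  have hqk : algebraMap R T q ∈ RingHom.ker (algebraMap T κ) := by
    rw [hker]; exact Ideal.mem_span_singleton_self _
  have h1 : algebraMap R T z • D k T (algebraMap R T q) =
      algebraMap R T q • KaehlerDifferential.map k k R T ω := by
    rw [← KaehlerDifferential.map_D k k R T q, algebraMap_smul, algebraMap_smul, ← map_smul, h, map_smul]
  have h2 : (1 : κ) ⊗ₜ[T] D k T (algebraMap R T q) = 0 := by
    have h3 : (1 : κ) ⊗ₜ[T] (algebraMap R T z • D k T (algebraMap R T q)) = 0 := by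
      rw [h1, ← TensorProduct.smul_tmul, Algebra.smul_def, (RingHom.mem_ker).1 hqk, zero_mul,
        TensorProduct.zero_tmul]
    rw [TensorProduct.tmul_smul] at h3
    exact hu.smul_eq_zero.1 h3
  have h4 : Ideal.toCotangent _ ⟨_, hqk⟩ = (0 : (RingHom.ker (algebraMap T κ)).Cotangent) := by
    have h5 := LinearMap.congr_fun hl (Ideal.toCotangent _ ⟨_, hqk⟩)
    rw [LinearMap.comp_apply, kerCotangentToTensor_toCotangent, h2, map_zero] at h5
    exact h5.symm
  rw [Ideal.toCotangent_eq_zero] at h4
  replace h4 : algebraMap R T q ∈ RingHom.ker (algebraMap T κ) ^ 2 := h4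
  rw [hker, pow_two, Ideal.span_singleton_mul_span_singleton, Ideal.mem_span_singleton] at h4
  obtain ⟨t, ht⟩ := h4
  have hq0 : algebraMap R T q ≠ 0 :=
    (map_ne_zero_iff _ (IsLocalization.injective T (M := (Ideal.span {q}).primeCompl) (Ideal.primeCompl_le_nonZeroDivisors _))).2 hq.ne_zero
  have h6 : algebraMap R T q * t = 1 := by
    apply mul_left_cancel₀ hq0
    rw [mul_one, ← mul_assoc]
    exact ht.symm
  exact (RingHom.ker_ne_top (algebraMap T κ)) (Ideal.eq_top_of_isUnit_mem _ hqk (IsUnit.of_mul_eq_one _ h6))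

variable {K : Type u} [Field K] [Algebra R K] [IsFractionRing R K] [Algebra k K] [IsScalarTower k R K]

theorem map_injective : Function.Injective (KaehlerDifferential.map k k R K) := by
  rw [injective_iff_map_eq_zero]
  intro x hx
  obtain ⟨s, hs⟩ := (IsLocalizedModule.eq_zero_iff (nonZeroDivisors R) (KaehlerDifferential.map k k R K)).1 hx
  exact (smul_eq_zero.1 hs).resolve_left (nonZeroDivisors.ne_zero s.2)

variable (k) in
/-- The logarithmic differential. -/
noncomputable def dl (x : K) : Ω[K⁄k] := x⁻¹ • D k K x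

theorem dl_mul {x y : K} (hx : x ≠ 0) (hy : y ≠ 0) : dl k (x * y) = dl k x + dl k y := by
  simp only [dl, Derivation.leibniz, smul_add, smul_smul]
  rw [add_comm]
  congr 2 <;> field_simp

theorem dl_pow {x : K} (hx : x ≠ 0) (n : ℕ) : dl k (x ^ n) = n • dl k x := by
  induction n with
  | zero => simp [dl]
  | succ n ih => rw [pow_succ, dl_mul (pow_ne_zero n hx) hx, ih, succ_nsmul]

theorem dl_inv {x : K} (hx : x ≠ 0) : dl k x⁻¹ = - dl k x := by
  have h := dl_mul (k := k) hx (inv_ne_zero hx)
  rw [mul_inv_cancel₀ hx] at h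
  rw [eq_neg_iff_add_eq_zero, add_comm, ← h]
  simp [dl]

variable (K) in
/-- Clearing the denominator `y`. -/
theorem clear_denom {y : R} (hy : y ≠ 0) (z c : R) :
    algebraMap R K (y * z) • ((algebraMap R K c * (algebraMap R K y)⁻¹) • D k K (algebraMap R K y)) =
      KaehlerDifferential.map k k R K ((c * z) • D k R y) := by
  have hy' : algebraMap R K y ≠ 0 := (map_ne_zero_iff _ (IsFractionRing.injective R K)).2 hy
  rw [map_smul, KaehlerDifferential.map_D, ← algebraMap_smul K (c * z), smul_smul, map_mul, map_mul]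
  congr 1
  field_simp

theorem clear_dl {y : R} (hy : y ≠ 0) (z : R) :
    algebraMap R K (y * z) • dl k (algebraMap R K y) = KaehlerDifferential.map k k R K (z • D k R y) := by
  have h := clear_denom (k := k) K hy z 1
  rwa [map_one, one_mul, one_mul] at h

variable {r : ℕ} (f : Fin r → R)

/-- A prime dividing the numerator is among the given ones. -/
theorem associated_of_dvd (hf : ∀ i, Prime (f i)) {a b : R} (ha : a ≠ 0) (hb : b ≠ 0)
    (hab : IsRelPrime a b) (η : Ω[R⁄k]) (c : Fin r → R)
    (h : dl k (algebraMap R K a) - dl k (algebraMap R K b) = KaehlerDifferential.map k k R K η +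
      ∑ i, (algebraMap R K (c i) * (algebraMap R K (f i))⁻¹) • D k K (algebraMap R K (f i)))
    {q : R} (hq : Prime q) (hqa : q ∣ a) [WfDvdMonoid R] : ∃ i, Associated (f i) q := by
  classical
  by_contra hne
  push Not at hne
  have hinj := IsFractionRing.injective R K
  obtain ⟨n, a', ha', rfl⟩ := WfDvdMonoid.max_power_factor ha hq.irreducible
  have ha'0 : a' ≠ 0 := fun h0 => ha (by rw [h0, mul_zero])
  have hqb : ¬ q ∣ b := fun hqb => hq.not_unit (hab hqa hqb)
  have hn : n ≠ 0 := fun hn0 => ha' (by simpa [hn0] using hqa)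
  let F := ∏ i, f i
  let G : Fin r → R := fun i => ∏ j ∈ Finset.univ.erase i, f j
  have hG : ∀ i, f i * G i = F := fun i => Finset.mul_prod_erase _ _ (Finset.mem_univ i)
  have hqF : ¬ q ∣ F := fun hd => by
    obtain ⟨i, -, hi⟩ := hq.exists_mem_finset_dvd hd
    exact hne i (((hq.associated_of_dvd (hf i)) hi).symm)
  have hLq : algebraMap R K q ≠ 0 := (map_ne_zero_iff _ hinj).2 hq.ne_zero
  have hLa : algebraMap R K a' ≠ 0 := (map_ne_zero_iff _ hinj).2 ha'0
  rw [map_mul, map_pow, dl_mul (pow_ne_zero n hLq) hLa, dl_pow hLq] at h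
  let W := q * a' * b * F
  have h' := congrArg (fun t => algebraMap R K W • t) h
  simp only [smul_sub, smul_add, Finset.smul_sum] at h'
  rw [smul_comm, show W = q * (a' * b * F) by ring, clear_dl hq.ne_zero,
    show q * (a' * b * F) = a' * (q * b * F) by ring, clear_dl ha'0,
    show a' * (q * b * F) = b * (q * a' * F) by ring, clear_dl hb,
    show b * (q * a' * F) = W by ring, algebraMap_smul] at h'
  have hsum : ∀ i, algebraMap R K W • ((algebraMap R K (c i) * (algebraMap R K (f i))⁻¹) •
      D k K (algebraMap R K (f i))) =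
        KaehlerDifferential.map k k R K (q • ((c i * (a' * b * G i)) • D k R (f i))) := fun i => by
    rw [show W = f i * (q * (a' * b * G i)) by simp only [W, ← hG i]; ring, clear_denom K (hf i).ne_zero,
      smul_smul]
    congr 2
    ring
  simp only [hsum] at h'
  simp only [algebraMap_smul, ← map_nsmul, ← map_smul] at h'
  simp only [← map_sum, ← map_sub, ← map_add] at h'
  have h2 := map_injective (K := K) h'
  refine not_smul_D_mem hq (z := (n : R) * (a' * b * F)) ?_
    ((a' * b * F) • η + (∑ i, (c i * (a' * b * G i)) • D k R (f i)) - (b * F) • D k R a' + (a' * F) • D k R b) ?_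
  · intro hd
    have hnu : IsUnit (n : R) := by
      rw [← map_natCast (algebraMap k R) n]
      exact (IsUnit.mk0 _ (Nat.cast_ne_zero.2 hn)).map _
    rcases hq.dvd_or_dvd hd with h0 | h0
    · exact hq.not_unit (isUnit_of_dvd_unit h0 hnu)
    · rcases hq.dvd_or_dvd h0 with h0 | h0
      · exact (hq.dvd_or_dvd h0).elim ha' hqb
      · exact hqF h0
  · rw [mul_smul, Nat.cast_smul_eq_nsmul, smul_add, smul_sub, smul_add, Finset.smul_sum, smul_smul, smul_smul,
      smul_smul, ← mul_assoc q b F, ← mul_assoc q a' F]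
    rw [show W = q * (a' * b * F) by ring] at h2
    have h3 : n • ((a' * b * F) • D k R q) + (q * b * F) • D k R a' - (q * a' * F) • D k R b =
        (q * (a' * b * F)) • η + ∑ i, q • ((c i * (a' * b * G i)) • D k R (f i)) := by
      rw [← h2]
    rw [← h3]
    abel

/-- Elements all of whose prime factors are among the given ones. -/
theorem exists_unit_prod [UniqueFactorizationMonoid R] (a : R) (ha : a ≠ 0)
    (h : ∀ q, Prime q → q ∣ a → ∃ i, Associated (f i) q) :
    ∃ (u : Rˣ) (e : Fin r → ℕ), a = u * ∏ i, f i ^ e i := by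
  classical
  induction a using UniqueFactorizationMonoid.induction_on_prime with
  | h₁ => exact absurd rfl ha
  | h₂ x hx => exact ⟨hx.unit, 0, by simp⟩
  | h₃ a q ha0 hq ih =>
    obtain ⟨u, e, he⟩ := ih ha0 fun q' hq' hd => h q' hq' (hd.mul_left q)
    obtain ⟨i, w, hw⟩ := h q hq (dvd_mul_right q a)
    refine ⟨u * w, e + Pi.single i 1, ?_⟩
    rw [Units.val_mul, ← hw, he]
    simp only [Pi.add_apply, pow_add, Finset.prod_mul_distrib]
    rw [Fintype.prod_eq_single (f := fun j => f j ^ (Pi.single i 1 : Fin r → ℕ) j) i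
      (fun j hj => by rw [Pi.single_eq_of_ne hj, pow_zero]), Pi.single_eq_same, pow_one]
    ring

theorem dl_prod_pow (hf : ∀ i, f i ≠ 0) (u : Rˣ) (e : Fin r → ℕ) :
    dl k (algebraMap R K (u * ∏ i, f i ^ e i)) =
      dl k (algebraMap R K u) + ∑ i, e i • dl k (algebraMap R K (f i)) := by
  classical
  have hf' : ∀ i, algebraMap R K (f i) ≠ 0 := fun i =>
    (map_ne_zero_iff _ (IsFractionRing.injective R K)).2 (hf i)
  rw [map_mul, map_prod]
  simp only [map_pow]
  rw [dl_mul ((u.isUnit.map _).ne_zero) (Finset.prod_ne_zero_iff.2 fun i _ => pow_ne_zero _ (hf' i))]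
  congr 1
  induction (Finset.univ : Finset (Fin r)) using Finset.induction_on with
  | empty => simp [dl]
  | insert i s hi ih =>
    rw [Finset.prod_insert hi, Finset.sum_insert hi,
      dl_mul (pow_ne_zero _ (hf' i)) (Finset.prod_ne_zero_iff.2 fun j _ => pow_ne_zero _ (hf' j)),
      dl_pow (hf' i), ih]

/-- A logarithmic differential with logarithmic poles along the given primes. -/
theorem exists_dlog_eq [UniqueFactorizationMonoid R] (hf : ∀ i, Prime (f i)) (g : K) (hg : g ≠ 0)
    (η : Ω[R⁄k]) (c : Fin r → R)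
    (h : dl k g = KaehlerDifferential.map k k R K η +
      ∑ i, (algebraMap R K (c i) * (algebraMap R K (f i))⁻¹) • D k K (algebraMap R K (f i))) :
    ∃ (v : Rˣ) (b : Fin r → ℤ), dl k g = dl k (algebraMap R K (v : R)) +
      ∑ i, ((b i : K) * (algebraMap R K (f i))⁻¹) • D k K (algebraMap R K (f i)) := by
  classical
  obtain ⟨a, b, hab, hgab⟩ := IsFractionRing.exists_reduced_fraction (A := R) g
  have hb : (b : R) ≠ 0 := nonZeroDivisors.ne_zero b.2
  have hLb : algebraMap R K (b : R) ≠ 0 := (map_ne_zero_iff _ (IsFractionRing.injective R K)).2 hb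
  have hg' : g = algebraMap R K a * (algebraMap R K (b : R))⁻¹ := by
    rw [← hgab, IsFractionRing.mk'_eq_div, div_eq_mul_inv]
  have hLa : algebraMap R K a ≠ 0 := left_ne_zero_of_mul (hg' ▸ hg)
  have ha : a ≠ 0 := fun h0 => hLa (by rw [h0, map_zero])
  have hd : dl k g = dl k (algebraMap R K a) - dl k (algebraMap R K (b : R)) := by
    rw [hg', dl_mul hLa (inv_ne_zero hLb), dl_inv hLb, sub_eq_add_neg]
  rw [hd] at h ⊢
  obtain ⟨u, e, hae⟩ := exists_unit_prod f a ha fun q hq hqa =>
    associated_of_dvd f hf ha hb hab η c h hq hqa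
  obtain ⟨w, e', hbe⟩ := exists_unit_prod f (b : R) hb fun q hq hqb =>
    associated_of_dvd (k := k) (K := K) f hf hb ha hab.symm (-η) (-c) (by
      rw [← neg_sub, h, neg_add, ← Finset.sum_neg_distrib, map_neg]
      simp only [Pi.neg_apply, map_neg, neg_mul, neg_smul]) hq hqb
  refine ⟨u * w⁻¹, fun i => (e i : ℤ) - e' i, ?_⟩
  rw [hae, hbe, dl_prod_pow f (fun i => (hf i).ne_zero), dl_prod_pow f (fun i => (hf i).ne_zero),
    Units.val_mul, map_mul, dl_mul (u.isUnit.map _).ne_zero ((w⁻¹).isUnit.map _).ne_zero,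
    show algebraMap R K ((w⁻¹ : Rˣ) : R) = (algebraMap R K (w : R))⁻¹ from
      eq_inv_of_mul_eq_one_left (by rw [← map_mul, Units.inv_mul, map_one]),
    dl_inv (w.isUnit.map _).ne_zero]
  have hsum : (∑ i, ((((e i : ℤ) - e' i : ℤ) : K) * (algebraMap R K (f i))⁻¹) • D k K (algebraMap R K (f i))) =
      (∑ i, e i • dl k (algebraMap R K (f i))) - ∑ i, e' i • dl k (algebraMap R K (f i)) := by
    rw [← Finset.sum_sub_distrib]
    refine Finset.sum_congr rfl fun i _ => ?_
    rw [Int.cast_sub, sub_mul, sub_smul, Int.cast_natCast, Int.cast_natCast, mul_smul, mul_smul,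
      Nat.cast_smul_eq_nsmul, Nat.cast_smul_eq_nsmul]
    rfl
  rw [hsum]
  abel

end GrothLib.DlogPoles5
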